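import Mathlib.CategoryTheory.Sites.LocallyBijective
import Mathlib.CategoryTheory.Sites.Localization
import Mathlib.CategoryTheory.Sites.LeftExact
import Mathlib.CategoryTheory.Limits.Shapes.Diagonal
import Mathlib.CategoryTheory.Limits.Shapes.Pullback.IsPullback.Basic

/-!
Coproducts of associated sheaves of representables.
-/

set_option autoImplicit false
set_option linter.style.haveILetI false

namespace Groth.Agent.SGA416

open CategoryTheory CategoryTheory.Limits Opposite

universe w v u

section

variable {C : Type u} [Category.{v} C] (J : GrothendieckTopology C) {X : C} {ι : Type w}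
  (Y : ι → C) (s : ∀ i, Y i ⟶ X)

lemma bijective_of_cover (hcov : Sieve.ofArrows Y s ∈ J X)
    (heq : ∀ i, ∀ {W : C} (a b : W ⟶ Y i), a ≫ s i = b ≫ s i →
      ∀ G : Sheaf J (Type v), ∀ x : G.obj.obj (op (Y i)), G.obj.map a.op x = G.obj.map b.op x)
    (hdisj : ∀ i j, i ≠ j → ∀ {W : C} (a : W ⟶ Y i) (b : W ⟶ Y j), a ≫ s i = b ≫ s j →
      ∀ G : Sheaf J (Type v), Subsingleton (G.obj.obj (op W)))
    (G : Sheaf J (Type v)) :
    Function.Bijective (fun (x : G.obj.obj (op X)) (i : ι) => G.obj.map (s i).op x) := by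
  have hsh := ((isSheaf_iff_isSheaf_of_type J G.obj).1 G.property) _ hcov
  have h' : (Presieve.ofArrows Y s).IsSheafFor G.obj := (Presieve.isSheafFor_iff_generate _).2 hsh
  rw [Presieve.isSheafFor_arrows_iff] at h'
  have hc : ∀ x : (i : ι) → G.obj.obj (op (Y i)), Presieve.Arrows.Compatible G.obj s x := by
    intro x i j W a b hab
    by_cases hij : i = j
    · subst hij
      exact heq i a b hab G (x i)
    · exact @Subsingleton.elim _ (hdisj i j hij a b hab G) _ _
  refine ⟨fun x y hxy => ?_, fun x => ?_⟩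
  · exact (h' _ (hc _)).unique (fun _ => rfl) (fun i => (congrFun hxy i).symm)
  · obtain ⟨t, ht, -⟩ := h' x (hc x)
    exact ⟨t, funext ht⟩

lemma subsingleton_of_bot {W : C} (h : (⊥ : Sieve W) ∈ J W) (G : Sheaf J (Type v)) :
    Subsingleton (G.obj.obj (op W)) :=
  ⟨fun _ _ => (((isSheaf_iff_isSheaf_of_type J G.obj).1 G.property) ⊥ h).isSeparatedFor.ext
    fun _ _ hf => hf.elim⟩

end

variable {C : Type u} [SmallCategory C] (J : GrothendieckTopology C) {X : C} {ι : Type u}
  (Y : ι → C) (s : ∀ i, Y i ⟶ X)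

/-- the cofan of associated sheaves -/
noncomputable abbrev shCofan : Cofan (fun i => (presheafToSheaf J (Type u)).obj (yoneda.obj (Y i))) :=
  Cofan.mk ((presheafToSheaf J (Type u)).obj (yoneda.obj X))
    (fun i => (presheafToSheaf J (Type u)).map (yoneda.map (s i)))

/-- sections of a sheaf are maps out of associated sheaves of representables -/
noncomputable def homEq (W : C) (G : Sheaf J (Type u)) :
    ((presheafToSheaf J (Type u)).obj (yoneda.obj W) ⟶ G) ≃ G.obj.obj (op W) :=
  ((sheafificationAdjunction J (Type u)).homEquiv _ _).trans yonedaEquiv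

lemma homEq_comp {W W' : C} (f : W' ⟶ W) (G : Sheaf J (Type u))
    (φ : (presheafToSheaf J (Type u)).obj (yoneda.obj W) ⟶ G) :
    homEq J W' G ((presheafToSheaf J (Type u)).map (yoneda.map f) ≫ φ) =
      G.obj.map f.op (homEq J W G φ) := by
  show yonedaEquiv (((sheafificationAdjunction J (Type u)).homEquiv _ _) (_ ≫ φ)) = _
  rw [Adjunction.homEquiv_naturality_left]
  exact (yonedaEquiv_naturality _ f).symm

lemma isColimit_shCofan_iff :
    Nonempty (IsColimit (shCofan J Y s)) ↔
      ∀ G : Sheaf J (Type u),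
        Function.Bijective (fun (x : G.obj.obj (op X)) (i : ι) => G.obj.map (s i).op x) := by
  let a := fun i => (presheafToSheaf J (Type u)).obj (yoneda.obj (Y i))
  constructor
  · rintro ⟨hc⟩ G
    refine ⟨fun x y hxy => ?_, fun x => ?_⟩
    · obtain ⟨φ, rfl⟩ := (homEq J X G).surjective x
      obtain ⟨ψ, rfl⟩ := (homEq J X G).surjective y
      refine congrArg _ (Cofan.IsColimit.hom_ext hc _ _ fun i => (homEq J (Y i) G).injective ?_)
      exact (homEq_comp J (s i) G φ).trans ((congrFun hxy i).trans (homEq_comp J (s i) G ψ).symm)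
    · refine ⟨homEq J X G (Cofan.IsColimit.desc hc fun i => (homEq J (Y i) G).symm (x i)),
        funext fun i => ?_⟩
      refine (homEq_comp J (s i) G _).symm.trans ?_
      rw [show (presheafToSheaf J (Type u)).map (yoneda.map (s i)) ≫
          Cofan.IsColimit.desc hc (fun i => (homEq J (Y i) G).symm (x i)) =
        (homEq J (Y i) G).symm (x i) from Cofan.IsColimit.fac hc _ i, Equiv.apply_symm_apply]
  · intro h
    refine ⟨mkCofanColimit _ (fun c => (homEq J X c.pt).symm
      ((h c.pt).2 fun i => homEq J (Y i) c.pt (c.inj i)).choose) (fun c i => ?_) (fun c m hm => ?_)⟩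
    · apply (homEq J (Y i) c.pt).injective
      refine (homEq_comp J (s i) c.pt _).trans ?_
      rw [Equiv.apply_symm_apply]
      exact congrFun ((h c.pt).2 fun i => homEq J (Y i) c.pt (c.inj i)).choose_spec i
    · apply (homEq J X c.pt).injective
      rw [Equiv.apply_symm_apply]
      refine (h c.pt).1 (funext fun i => ?_)
      refine (homEq_comp J (s i) c.pt m).symm.trans ?_
      rw [show (presheafToSheaf J (Type u)).map (yoneda.map (s i)) ≫ m = c.inj i from hm i]
      exact (congrFun ((h c.pt).2 fun i => homEq J (Y i) c.pt (c.inj i)).choose_spec i).symm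

/-- the disjoint sum of representables -/
def sumPre : Cᵒᵖ ⥤ Type u where
  obj W := Σ i, W.unop ⟶ Y i
  map f := ↾fun p => ⟨p.1, f.unop ≫ p.2⟩
  map_id W := by
    apply ConcreteCategory.hom_ext
    rintro ⟨i, f⟩
    show (⟨i, 𝟙 W.unop ≫ f⟩ : Σ i, W.unop ⟶ Y i) = ⟨i, f⟩
    rw [Category.id_comp]
  map_comp {W W' W''} f g := by
    apply ConcreteCategory.hom_ext
    rintro ⟨i, h⟩
    show (⟨i, (g.unop ≫ f.unop) ≫ h⟩ : Σ i, W''.unop ⟶ Y i) = ⟨i, g.unop ≫ f.unop ≫ h⟩
    rw [Category.assoc]

/-- the inclusions -/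
def sumι (i : ι) : yoneda.obj (Y i) ⟶ sumPre Y where
  app W := ↾fun f => ⟨i, f⟩

/-- the map to `h_X` -/
def sumDesc : sumPre Y ⟶ yoneda.obj X where
  app W := ↾fun p => p.2 ≫ s p.1
  naturality W W' f := by ext p; exact Category.assoc _ _ _

lemma sumι_desc (i : ι) : sumι Y i ≫ sumDesc Y s = yoneda.map (s i) := rfl

lemma sumι_mono (i : ι) : Mono (sumι Y i) := by
  haveI : ∀ W, Mono ((sumι Y i).app W) := fun W => by
    rw [CategoryTheory.mono_iff_injective]
    intro f g h
    exact eq_of_heq (Sigma.mk.inj_iff.1 h).2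
  exact NatTrans.mono_of_mono_app _

lemma W_sumDesc (h : ∀ G : Sheaf J (Type u),
    Function.Bijective (fun (x : G.obj.obj (op X)) (i : ι) => G.obj.map (s i).op x)) :
    J.W (sumDesc Y s) := by
  intro G hG
  have hx : ∀ (t : yoneda.obj X ⟶ G) (i : ι),
      G.map (s i).op (yonedaEquiv t) = (sumDesc Y s ≫ t).app (op (Y i)) ⟨i, 𝟙 _⟩ := fun t i => by
    refine (NatTrans.naturality_apply t (s i).op (𝟙 X)).symm.trans ?_
    refine congrArg (t.app (op (Y i))) ?_
    exact (Category.comp_id _).trans (Category.id_comp _).symm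
  refine ⟨fun t t' htt => ?_, fun t => ?_⟩
  · apply yonedaEquiv.injective
    refine (h ⟨G, hG⟩).1 (funext fun i => (hx t i).trans (Eq.trans ?_ (hx t' i).symm))
    exact ConcreteCategory.congr_hom (NatTrans.congr_app htt (op (Y i))) ⟨i, 𝟙 _⟩
  · obtain ⟨x, hx'⟩ := (h ⟨G, hG⟩).2 fun i => t.app (op (Y i)) ⟨i, 𝟙 _⟩
    refine ⟨yonedaEquiv.symm x, ?_⟩
    ext W ⟨i, f⟩
    show G.map (f ≫ s i).op x = t.app W ⟨i, f⟩
    rw [op_comp, Functor.map_comp]
    refine (congrArg (G.map f.op) (congrFun hx' i)).trans ?_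
    refine (NatTrans.naturality_apply t f.op ⟨i, 𝟙 _⟩).symm.trans ?_
    exact congrArg (fun g => t.app W ⟨i, g⟩) (Category.comp_id f)

lemma isIso_map_sumDesc (h : ∀ G : Sheaf J (Type u),
    Function.Bijective (fun (x : G.obj.obj (op X)) (i : ι) => G.obj.map (s i).op x)) :
    IsIso ((presheafToSheaf J (Type u)).map (sumDesc Y s)) :=
  (J.W_iff _).1 (W_sumDesc J Y s h)

lemma mem_of_bijective (h : ∀ G : Sheaf J (Type u),
    Function.Bijective (fun (x : G.obj.obj (op X)) (i : ι) => G.obj.map (s i).op x)) :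
    Sieve.ofArrows Y s ∈ J X := by
  obtain ⟨-, hs⟩ := (J.W_iff_isLocallyBijective _).1 (W_sumDesc J Y s h)
  refine J.superset_covering ?_ (Presheaf.imageSieve_mem J (sumDesc Y s) (U := op X) (𝟙 X))
  rintro W f ⟨⟨i, g⟩, hg⟩
  have hg' : g ≫ s i = f ≫ 𝟙 X := hg
  rw [Category.comp_id] at hg'
  exact ⟨Y i, g, s i, ⟨i⟩, hg'⟩

lemma isIso_diagonal (h : ∀ G : Sheaf J (Type u),
    Function.Bijective (fun (x : G.obj.obj (op X)) (i : ι) => G.obj.map (s i).op x)) (i : ι) :
    IsIso ((presheafToSheaf J (Type u)).map (pullback.diagonal (yoneda.map (s i)))) := by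
  let a := presheafToSheaf J (Type u)
  haveI := isIso_map_sumDesc J Y s h
  haveI := sumι_mono Y i
  haveI : Mono (a.map (yoneda.map (s i))) := by
    rw [← sumι_desc Y s i, Functor.map_comp]
    exact mono_comp _ _
  have sq := (IsPullback.of_hasPullback (yoneda.map (s i)) (yoneda.map (s i))).map a
  haveI : IsIso (a.map (pullback.fst (yoneda.map (s i)) (yoneda.map (s i)))) :=
    sq.isIso_fst_of_mono
  have : a.map (pullback.diagonal (yoneda.map (s i))) ≫
      a.map (pullback.fst (yoneda.map (s i)) (yoneda.map (s i))) = 𝟙 _ := by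
    rw [← Functor.map_comp, pullback.diagonal_fst, CategoryTheory.Functor.map_id]
  exact IsIso.of_isIso_fac_right this

lemma isInitial_pullback (h : ∀ G : Sheaf J (Type u),
    Function.Bijective (fun (x : G.obj.obj (op X)) (i : ι) => G.obj.map (s i).op x)) {i j : ι}
    (hij : i ≠ j) :
    Nonempty (IsInitial ((presheafToSheaf J (Type u)).obj
      (pullback (yoneda.map (s i)) (yoneda.map (s j))))) := by
  let a := presheafToSheaf J (Type u)
  haveI := isIso_map_sumDesc J Y s h
  let P' := pullback (sumι Y i) (sumι Y j)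
  have hP' : ∀ W, IsEmpty (P'.obj W) := fun W => ⟨fun p => hij (congrArg Sigma.fst
    (ConcreteCategory.congr_hom (NatTrans.congr_app (pullback.condition (f := sumι Y i) (g := sumι Y j)) W) p))⟩
  have hinit : IsInitial (a.obj P') :=
    IsInitial.ofUniqueHom (fun G => ((sheafificationAdjunction J (Type u)).homEquiv P' G).symm
        { app := fun W => ↾fun p => ((hP' W).false p).elim
          naturality := fun W W' f => by ext p; exact ((hP' W).false p).elim })
      fun G m => ((sheafificationAdjunction J (Type u)).homEquiv P' G).injective (by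
        ext W p; exact ((hP' W).false p).elim)
  have sq := ((IsPullback.of_hasPullback (sumι Y i) (sumι Y j)).map a).of_iso (Iso.refl _)
    (Iso.refl _) (Iso.refl _) (asIso (a.map (sumDesc Y s))) (f' := a.map (yoneda.map (s i)))
    (g' := a.map (yoneda.map (s j))) (fst' := a.map (pullback.fst _ _)) (snd' := a.map (pullback.snd _ _))
    (by simp [P']) (by simp [P'])
    (by rw [← sumι_desc Y s i, Functor.map_comp]; simp)
    (by rw [← sumι_desc Y s j, Functor.map_comp]; simp)
  exact ⟨hinit.ofIso (sq.isoIsPullback _ _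
    ((IsPullback.of_hasPullback (yoneda.map (s i)) (yoneda.map (s j))).map a))⟩

lemma bijective_of_conditions (hcov : Sieve.ofArrows Y s ∈ J X)
    (hdiag : ∀ i, IsIso ((presheafToSheaf J (Type u)).map (pullback.diagonal (yoneda.map (s i)))))
    (hdisj : ∀ i j, i ≠ j → Nonempty (IsInitial ((presheafToSheaf J (Type u)).obj
      (pullback (yoneda.map (s i)) (yoneda.map (s j))))))
    (G : Sheaf J (Type u)) :
    Function.Bijective (fun (x : G.obj.obj (op X)) (i : ι) => G.obj.map (s i).op x) := by
  have adj := sheafificationAdjunction J (Type u)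
  refine bijective_of_cover J Y s hcov (fun i W a b hab G x => ?_) (fun i j hij W a b hab G => ?_) G
  · let d := pullback.diagonal (yoneda.map (s i))
    let φ : yoneda.obj (Y i) ⟶ G.obj := yonedaEquiv.symm x
    have hd := hdiag i
    have key : pullback.fst (yoneda.map (s i)) (yoneda.map (s i)) ≫ φ =
        pullback.snd (yoneda.map (s i)) (yoneda.map (s i)) ≫ φ := by
      apply (((sheafificationAdjunction J (Type u)).homEquiv _ G).symm).injective
      rw [← cancel_epi ((presheafToSheaf J (Type u)).map d),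
        ← (sheafificationAdjunction J (Type u)).homEquiv_naturality_left_symm,
        ← (sheafificationAdjunction J (Type u)).homEquiv_naturality_left_symm]
      congr 1
      rw [← Category.assoc, ← Category.assoc, pullback.diagonal_fst, pullback.diagonal_snd]
    let p : yoneda.obj W ⟶ pullback (yoneda.map (s i)) (yoneda.map (s i)) :=
      pullback.lift (yoneda.map a) (yoneda.map b) (by rw [← yoneda.map_comp, ← yoneda.map_comp, hab])
    have h2 := congrArg (p ≫ ·) key
    simp only [p, pullback.lift_fst_assoc, pullback.lift_snd_assoc] at h2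
    have h3 := congrArg yonedaEquiv h2
    rw [← yonedaEquiv_naturality, ← yonedaEquiv_naturality, Equiv.apply_symm_apply] at h3
    exact h3
  · obtain ⟨hI⟩ := hdisj i j hij
    let p : yoneda.obj W ⟶ pullback (yoneda.map (s i)) (yoneda.map (s j)) :=
      pullback.lift (yoneda.map a) (yoneda.map b) (by rw [← yoneda.map_comp, ← yoneda.map_comp, hab])
    refine subsingleton_of_bot J ?_ G
    let E₀ : Cᵒᵖ ⥤ Type u := (Functor.const _).obj PEmpty
    let t : yoneda.obj W ⟶ ((presheafToSheaf J (Type u)).obj E₀).obj :=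
      (sheafificationAdjunction J (Type u)).homEquiv _ _
        ((presheafToSheaf J (Type u)).map p ≫ hI.to _)
    refine J.superset_covering ?_ (Presheaf.imageSieve_mem J (toSheafify J E₀) (t.app (op W) (𝟙 W)))
    rintro V f ⟨e, -⟩
    exact PEmpty.elim e

end Groth.Agent.SGA416
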